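import Groth.Agent.Amp73.Tensor
import Groth.Agent.Crv77.Special

/-! Invertible modules with sections on integral schemes whose functions form a field. -/

set_option autoImplicit false

universe u

open CategoryTheory CategoryTheory.Limits AlgebraicGeometry Opposite TopologicalSpace

noncomputable section

namespace Groth.Agent.TrivLine96

open Var76.LineBundle Var76.ZeroScheme

variable {X : Scheme.{u}} {L : X.Modules}

theorem isIso_of_genLocus_eq_top (s : Coh.structureModule X ⟶ L) (h : CohB1.genLocus L s = ⊤) :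
    IsIso s := by
  have hf := (Amp73.isFrame_iff_le_genLocus s ⊤).2 h.ge
  rw [Scheme.Modules.Hom.isIso_iff_isIso_app]
  intro V
  refine (ConcreteCategory.isIso_iff_bijective _).2 ?_
  have := hf V le_top
  rw [res_val] at this
  have e : (fun a : Γ(X, V) => a • val L s V) = fun a : Γ(X, V) => s.app V (a : Γ(Coh.structureModule X, V)) :=
    funext fun a => (Amp73.app_eq_smul_val s V a).symm
  rw [e] at this
  exact this

theorem hom_eq_zero_of_val (hL : PicF.IsInvertible L) [IsIntegral X] (s : Coh.structureModule X ⟶ L)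
    {U : X.Opens} (hU : (U : Set X).Nonempty) (h : val L s U = 0) : s = 0 := by
  have h0 : val L s ⊤ = 0 := by
    refine Crv77.eq_zero_of_res_eq_zero hL (le_top (a := U)) hU _ ?_
    exact (res_val L s (le_top (a := U))).trans h
  ext V a
  refine (Amp73.app_eq_smul_val s V a).trans ?_
  rw [← res_val L s (le_top (a := V)), h0]
  exact (congrArg _ (map_zero _)).trans (smul_zero _)

theorem genLocus_nonempty (hL : PicF.IsInvertible L) [IsIntegral X] (s : Coh.structureModule X ⟶ L)
    (hs : s ≠ 0) : (CohB1.genLocus L s : Set X).Nonempty := by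
  obtain ⟨U, hxU, -, e, he⟩ := Mero90.exists_affine_frame hL (genericPoint X) ⊤ trivial
  obtain ⟨c, hc⟩ := Amp73.exists_coord s he
  have hc0 : c ≠ 0 := fun h => hs (hom_eq_zero_of_val hL s (U := U.1) ⟨_, hxU⟩ (by rw [← hc, h]; exact zero_smul _ _))
  have hb : X.basicOpen c ≠ ⊥ := fun h => hc0 ((basicOpen_eq_bot_iff c).1 h)
  obtain ⟨x, hx⟩ := Set.nonempty_iff_ne_empty.2 fun h => hb (SetLike.coe_injective h)
  exact ⟨x, ((Amp73.genLocus_inf_eq_basicOpen s he hc).ge hx).1⟩

/-- The value of an endomorphism of the structure sheaf. -/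
theorem genLocus_structure_eq_top [IsIntegral X] (hfield : IsField (Γ(X, ⊤) : Type u))
    (r : Coh.structureModule X ⟶ Coh.structureModule X)
    (h : (CohB1.genLocus _ r : Set X).Nonempty) : CohB1.genLocus _ r = ⊤ := by
  let one : Γ(Coh.structureModule X, ⊤) := (1 : Γ(X, ⊤))
  have he : IsFrame (Coh.structureModule X) ⊤ one := by
    have h1 := (Amp73.isFrame_iff_le_genLocus (𝟙 (Coh.structureModule X)) ⊤).2 Amp73.genLocus_id.ge
    exact h1
  let c : Γ(X, ⊤) := val _ r ⊤
  have hc : c • one = val _ r ⊤ := mul_one c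
  have key := Amp73.genLocus_inf_eq_basicOpen r he hc
  rw [inf_top_eq] at key
  have hc0 : c ≠ 0 := fun h0 => by
    obtain ⟨x, hx⟩ := h
    have := key.le hx
    rw [h0, Scheme.basicOpen_zero] at this
    exact this
  letI := hfield.toField
  rw [key, X.basicOpen_of_isUnit (isUnit_iff_ne_zero.2 hc0)]

theorem nonempty_iso_of_pow [IsIntegral X] (hfield : IsField (Γ(X, ⊤) : Type u))
    (hL : PicF.IsInvertible L) (s : Coh.structureModule X ⟶ L) (hs : s ≠ 0) (d : ℕ) (hd : 0 < d)
    (htriv : Nonempty (CohB1.tensorPow L d ≅ Coh.structureModule X)) :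
    Nonempty (L ≅ Coh.structureModule X) := by
  obtain ⟨φ⟩ := htriv
  have h1 := Amp73.genLocus_powHom hL s d hd
  rw [← Amp73.genLocus_comp_iso (SecTwist.powHom s d) φ.hom] at h1
  have h2 := genLocus_structure_eq_top hfield _ (h1 ▸ genLocus_nonempty hL s hs)
  rw [h1] at h2
  have := isIso_of_genLocus_eq_top s h2
  exact ⟨(asIso s).symm⟩

theorem nonempty_iso_of_two_sided [IsIntegral X] (hfield : IsField (Γ(X, ⊤) : Type u))
    (hL : PicF.IsInvertible L) (s : Coh.structureModule X ⟶ L) (hs : s ≠ 0)
    (t : L ⟶ Coh.structureModule X) (ht : t ≠ 0) : Nonempty (L ≅ Coh.structureModule X) := by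
  have hne : (CohB1.genLocus _ (s ≫ t) : Set X).Nonempty := by
    obtain ⟨x, hx⟩ := genLocus_nonempty hL s hs
    refine genLocus_nonempty ?_ _ fun h0 => ht ?_
    · exact EGA73.isInvertible_structureModule
    ext V m
    have hD := (Amp73.isFrame_iff_le_genLocus s _).2 (le_refl (CohB1.genLocus L s))
    rcases Set.eq_empty_or_nonempty (V : Set X) with hV | hV
    · have : V = ⊥ := SetLike.coe_injective hV
      subst this
      exact (CommRingCat.subsingleton_of_isTerminal X.sheaf.isTerminalOfEmpty).elim _ _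
    let W := V ⊓ CohB1.genLocus L s
    have hW : (W : Set X).Nonempty := nonempty_preirreducible_inter V.2 (CohB1.genLocus L s).2 hV ⟨x, hx⟩
    have : Nonempty W := ⟨⟨_, hW.choose_spec⟩⟩
    refine map_injective_of_isIntegral X (homOfLE (inf_le_left : W ≤ V)) ?_
    obtain ⟨b, hb⟩ := (hD W inf_le_right).2 (res L inf_le_left m)
    dsimp only at hb
    rw [res_val] at hb
    have h3 : t.app W (res L inf_le_left m) = 0 := by
      rw [← hb, ← Amp73.app_eq_smul_val]
      exact ConcreteCategory.congr_hom (congrArg (fun f => Scheme.Modules.Hom.app f W) h0) _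
    exact ((Mero90.app_res t inf_le_left m).symm.trans h3).trans (map_zero _).symm
  have h2 := genLocus_structure_eq_top hfield _ hne
  have h3 : CohB1.genLocus L s = ⊤ := by
    rw [eq_top_iff]
    intro x _
    obtain ⟨U, hxU, -, e, he⟩ := Mero90.exists_affine_frame hL x ⊤ trivial
    obtain ⟨a, ha⟩ := Amp73.exists_coord s he
    let one : Γ(Coh.structureModule X, U.1) := (1 : Γ(X, U.1))
    have hone : IsFrame (Coh.structureModule X) U.1 one :=
      (Amp73.isFrame_iff_le_genLocus (𝟙 (Coh.structureModule X)) U.1).2 (le_top.trans Amp73.genLocus_id.ge)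
    let τ : Γ(X, U.1) := t.app U.1 e
    have hc : (a * τ) • one = val _ (s ≫ t) U.1 := by
      show (a * _) * (1 : Γ(X, U.1)) = t.app U.1 (val L s U.1)
      rw [mul_one, ← ha, Scheme.Modules.Hom.app_smul]
      rfl
    have hx2 := (Amp73.genLocus_inf_eq_basicOpen (s ≫ t) hone hc).le ⟨h2.ge trivial, hxU⟩
    rw [X.basicOpen_mul] at hx2
    exact ((Amp73.genLocus_inf_eq_basicOpen s he ha).ge hx2.1).1
  have := isIso_of_genLocus_eq_top s h3
  exact ⟨(asIso s).symm⟩

end Groth.Agent.TrivLine96
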