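import Groth.Agent.Amp73.Avoid
import Groth.Agent.Amp73.GlobGen

/-! Sections of high twists generating at finitely many given points. -/

set_option autoImplicit false

universe u

open CategoryTheory CategoryTheory.Limits AlgebraicGeometry Opposite TopologicalSpace

noncomputable section

namespace Groth.Agent.TrivLine96

open Var76.LineBundle Var76.ZeroScheme Amp73

theorem exists_section_at_points {X : Scheme.{u}} {A L : X.Modules} (hA : CohB1.IsAmple A)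
    (hL : PicF.IsInvertible L) {Z : Set X} (hZ : Z.Finite) :
    ∃ N₀ : ℕ, ∀ N : ℕ, N₀ ≤ N → ∃ s : Coh.structureModule X ⟶ CohB1.tensorMod L (CohB1.tensorPow A N),
      ∀ z ∈ Z, z ∈ CohB1.genLocus (CohB1.tensorMod L (CohB1.tensorPow A N)) s := by
  classical
  let Z₀ : Set X := {z ∈ Z | ∀ z' ∈ Z, z ⤳ z' → z' ⤳ z}
  have hdom : ∀ x ∈ Z, ∃ z ∈ Z₀, x ⤳ z := by
    intro x hx
    obtain ⟨z, ⟨hz, hxz⟩, hmin⟩ := (hZ.subset (fun z hz => hz.1 : {z ∈ Z | x ⤳ z} ⊆ Z)).exists_minimalFor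
      (fun z => closure ({z} : Set X)) _ ⟨x, hx, specializes_refl x⟩
    refine ⟨z, ⟨hz, fun z' hz' hzz' => ?_⟩, hxz⟩
    exact specializes_iff_closure_subset.2 (hmin ⟨hz', hxz.trans hzz'⟩ (specializes_iff_closure_subset.1 hzz'))
  have hZ₀ : Z₀.Finite := hZ.subset fun z hz => hz.1
  have := hZ₀.fintype
  have hsec : ∀ z : Z₀, ∃ (n : ℕ) (s : Coh.structureModule X ⟶ CohB1.tensorPow A (n + 1)),
      z.1 ∈ CohB1.genLocus _ s ∧ (∀ z' : Z₀, z' ≠ z → z'.1 ∉ CohB1.genLocus _ s) := by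
    intro z
    let C : Set X := ⋃ z' ∈ {z' : Z₀ | z' ≠ z}, closure {z'.1}
    have hC : IsClosed C := (Set.toFinite _).isClosed_biUnion fun _ _ => isClosed_closure
    have hzC : z.1 ∈ (⟨Cᶜ, hC.isOpen_compl⟩ : X.Opens) := by
      intro hz
      obtain ⟨z', hne, hz'⟩ := Set.mem_iUnion₂.1 hz
      have h1 : z'.1 ⤳ z.1 := specializes_iff_mem_closure.2 hz'
      exact hne (Subtype.ext ((h1.antisymm (z'.2.2 z.1 z.2.1 h1)).eq))
    obtain ⟨_, ⟨n, s, rfl⟩, hzG, hle, -⟩ := exists_affine_genSet_le hA z.1 _ hzC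
    exact ⟨n, s, hzG, fun z' hne hz' => (hle hz') (Set.mem_iUnion₂.2 ⟨z', hne, subset_closure rfl⟩)⟩
  choose n s hs hne using hsec
  obtain ⟨m, σ, hσ⟩ := exists_common_exponent hA.1 n s
  obtain ⟨n₀, hn₀⟩ := eventually_spanAt_twist hA (isCoh_of_isInvertible hL)
  refine ⟨n₀ + (m + 1), fun N hN => ?_⟩
  let r := N - (m + 1)
  have hr : r + (m + 1) = N := by omega
  have hP : PicF.IsInvertible (CohB1.tensorMod L (CohB1.tensorPow A r)) :=
    EGA73.isInvertible_tensorMod hL (EGA73.isInvertible_tensorPow hA.1 r)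
  have hQ := EGA73.isInvertible_tensorPow hA.1 (m + 1)
  have ht : ∀ z : Z₀, ∃ t : Coh.structureModule X ⟶ CohB1.tensorMod L (CohB1.tensorPow A r),
      z.1 ∈ CohB1.genLocus _ t := fun z => by
    obtain ⟨U, hzU, hU, hspan⟩ := hn₀ r (by omega) z.1
    obtain ⟨t, ht⟩ := exists_genLocus_of_spanAt hP hU hspan hzU
    exact ⟨_, ht⟩
  choose t ht using ht
  let φ : CohB1.tensorMod (CohB1.tensorMod L (CohB1.tensorPow A r)) (CohB1.tensorPow A (m + 1)) ⟶
      CohB1.tensorMod L (CohB1.tensorPow A N) :=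
    (EGA73.tensAssoc' L (CohB1.tensorPow A r) (CohB1.tensorPow A (m + 1)) ≪≫
      EGA73.tensIso (Iso.refl L) (powAdd A r (m + 1) ≪≫ eqToIso (congrArg _ hr))).hom
  have : IsIso φ := Iso.isIso_hom _
  let ρ : Z₀ → (Coh.structureModule X ⟶ CohB1.tensorMod L (CohB1.tensorPow A N)) := fun z =>
    SecTwist.tmulHom (t z) (σ z) ≫ φ
  have hρ : ∀ z, CohB1.genLocus _ (ρ z) = CohB1.genLocus _ (t z) ⊓ CohB1.genLocus _ (s z) := fun z => by
    rw [genLocus_comp_iso, genLocus_tmulHom hP hQ, hσ]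
  have hM : PicF.IsInvertible (CohB1.tensorMod L (CohB1.tensorPow A N)) :=
    EGA73.isInvertible_tensorMod hL (EGA73.isInvertible_tensorPow hA.1 N)
  refine ⟨Var76.Frames.ofSection _ (∑ z, val _ (ρ z) ⊤), fun x hx => ?_⟩
  obtain ⟨z, hz, hxz⟩ := hdom x hx
  refine hxz.mem_open (Opens.isOpen _) (mem_genLocus_sum hM ρ (j := ⟨z, hz⟩) ?_ fun i hi h => ?_)
  · rw [hρ]; exact ⟨ht ⟨z, hz⟩, hs ⟨z, hz⟩⟩
  · rw [hρ] at h
    exact hne i ⟨z, hz⟩ (Ne.symm hi) h.2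

end Groth.Agent.TrivLine96
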